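import Groth.Agent.TorsorPts.Alg
import Groth.Agent.GrpSchLib.Cartier
import Groth.Agent.FpqcDesc.Basic
import Groth.Prelude.Def_NonAbH2

/-!
# Rational points of torsors under affine group schemes over algebraically closed fields
-/

set_option autoImplicit false
set_option backward.isDefEq.respectTransparency false
set_option maxHeartbeats 1000000
universe u

open CategoryTheory MonoidalCategory CartesianMonoidalCategory MonObj GrpObj AlgebraicGeometry Limits
open scoped TensorProduct
open Groth.Agent.GrpSchLib

noncomputable section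

namespace Groth.Agent.TorsorPts

variable {k : Type u} [Field k]

/-- A pseudo-torsor with a point over some nonempty scheme has one over a field. -/
theorem exists_field_point (P : Over (Spec (CommRingCat.of k)))
    (h : NonAbH1.IsLocallyTrivialFor Scheme.fpqcPrecoverage P) :
    ∃ (K : Type u) (_ : Field K) (_ : Algebra k K), Nonempty (spO k K ⟶ P) := by
  obtain ⟨R, hR, hsec⟩ := h
  have hsurj := ((Scheme.propQCPrecoverage_le_precoverage (P := @Flat)) _ hR).1
  obtain ⟨Y, g, hg, hx⟩ := hsurj (IsLocalRing.closedPoint k)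
  obtain ⟨hf⟩ := hg
  rename_i S' f
  obtain ⟨y, -⟩ := hx
  obtain ⟨s, hs⟩ := hsec f hf
  let K : Type u := S'.residueField y
  let q := S'.fromSpecResidueField y ≫ f
  letI : Algebra k K := (Spec.preimage q).hom.toAlgebra
  refine ⟨K, inferInstance, inferInstance, ⟨Over.homMk (S'.fromSpecResidueField y ≫ s) ?_⟩⟩
  show (_ ≫ s) ≫ P.hom = Spec.map (Spec.preimage q)
  rw [Category.assoc, hs, Spec.map_preimage]

/-- An algebra structure on the coordinate ring of an affine scheme over a field. -/
theorem exists_coordRing (P : Over (Spec (CommRingCat.of k))) [IsAffine P.left] :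
    ∃ (B : Type u) (_ : CommRing B) (_ : Algebra k B), Nonempty (spO k B ≅ P) := by
  let q := P.left.isoSpec.inv ≫ P.hom
  letI : Algebra k Γ(P.left, ⊤) := (Spec.preimage q).hom.toAlgebra
  refine ⟨Γ(P.left, ⊤), inferInstance, inferInstance, ⟨Over.isoMk P.left.isoSpec.symm ?_⟩⟩
  show P.left.isoSpec.inv ≫ P.hom = Spec.map (Spec.preimage q)
  rw [Spec.map_preimage]

section Torsor

variable {G P : Over (Spec (CommRingCat.of k))} [GrpObj G] (a : AlgGrp.Action G P)

theorem act_one {T : Over (Spec (CommRingCat.of k))} (x : T ⟶ P) : lift (1 : T ⟶ G) x ≫ a.act = x := by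
  have h := congrArg (lift (toUnit T) x ≫ ·) a.one_act
  simp only [lift_whiskerRight_assoc] at h
  rw [Hom.one_def]
  exact h.trans (lift_leftUnitor_hom _ _)

theorem act_mul {T : Over (Spec (CommRingCat.of k))} (g h : T ⟶ G) (x : T ⟶ P) :
    lift (g * h) x ≫ a.act = lift g (lift h x ≫ a.act) ≫ a.act := by
  have e := congrArg (lift (lift g h) x ≫ ·) a.mul_act
  simp only [lift_whiskerRight_assoc, lift_lift_associator_hom_assoc, lift_whiskerLeft_assoc] at e
  exact e

variable (ha : NonAbH1.IsPseudoTorsorSch a)

include ha in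
theorem existsUnique_act {T : Over (Spec (CommRingCat.of k))} (x y : T ⟶ P) :
    ∃! g : T ⟶ G, lift g x ≫ a.act = y := by
  haveI : IsIso (lift a.act (snd G P)) := ha
  let w := lift y x ≫ inv (lift a.act (snd G P))
  have hw : w ≫ lift a.act (snd G P) = lift y x := by
    simp only [w, Category.assoc, IsIso.inv_hom_id, Category.comp_id]
  have h1 : w ≫ a.act = y := by simpa using congrArg (· ≫ fst P P) hw
  have h2 : w ≫ snd G P = x := by simpa using congrArg (· ≫ snd P P) hw
  refine ⟨w ≫ fst G P, ?_, fun g hg => ?_⟩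
  · show lift (w ≫ fst G P) x ≫ a.act = y
    rw [← h2, lift_comp_fst_snd]
    exact h1
  · have e : lift g x = w := by
      rw [← cancel_mono (lift a.act (snd G P)), hw, comp_lift, hg, lift_snd]
    rw [← e, lift_fst]

include ha in
/-- The trivialisation by a point. -/
theorem isIso_trivialization {T : Over (Spec (CommRingCat.of k))} (x : T ⟶ P) :
    IsIso (lift (lift (fst G T) (snd G T ≫ x) ≫ a.act) (snd G T)) := by
  haveI : IsIso (lift a.act (snd G P)) := ha
  let g := lift (fst P T) (snd P T ≫ x) ≫ inv (lift a.act (snd G P)) ≫ fst G P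
  have hg : ∀ {T' : Over (Spec (CommRingCat.of k))} (u : T' ⟶ P ⊗ T),
      lift (u ≫ g) (u ≫ snd P T ≫ x) ≫ a.act = u ≫ fst P T := by
    intro T' u
    obtain ⟨g₀, h₀, -⟩ := existsUnique_act a ha (u ≫ snd P T ≫ x) (u ≫ fst P T)
    have e : u ≫ g = g₀ := by
      show u ≫ lift _ _ ≫ _ = g₀
      rw [← Category.assoc, comp_lift, ← h₀]
      have e2 : lift (lift g₀ (u ≫ snd P T ≫ x) ≫ a.act) (u ≫ snd P T ≫ x) =
          lift g₀ (u ≫ snd P T ≫ x) ≫ lift a.act (snd G P) := by rw [comp_lift, lift_snd]
      rw [e2, Category.assoc, IsIso.hom_inv_id_assoc, lift_fst]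
    rw [e, h₀]
  refine ⟨lift g (snd P T), ?_, ?_⟩
  · refine CartesianMonoidalCategory.hom_ext _ _ ?_ (by simp)
    rw [Category.assoc, lift_fst, Category.id_comp]
    set u := lift (lift (fst G T) (snd G T ≫ x) ≫ a.act) (snd G T) with hu
    refine (existsUnique_act a ha (snd G T ≫ x) (lift (fst G T) (snd G T ≫ x) ≫ a.act)).unique ?_ rfl
    have := hg u
    rw [hu, lift_snd_assoc, lift_fst] at this
    exact this
  · refine CartesianMonoidalCategory.hom_ext _ _ ?_ (by simp)
    rw [Category.assoc, lift_fst, Category.id_comp, ← Category.assoc, comp_lift, lift_fst, lift_snd_assoc]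
    have := hg (𝟙 (P ⊗ T))
    simpa using this

end Torsor

include k in
theorem isAffine_of_isTorsor {G P : Over (Spec (CommRingCat.of k))} [GrpObj G] [IsAffine G.left] (a : AlgGrp.Action G P)
    (ha : NonAbH1.IsPseudoTorsorSch a) {K : Type u} [Field K] [Algebra k K] (x : spO k K ⟶ P) :
    IsAffine P.left := by
  haveI := isIso_trivialization a ha x
  let θ := lift (lift (fst G (spO k K)) (snd G (spO k K) ≫ x) ≫ a.act) (snd G (spO k K))
  haveI : IsIso θ.left := inferInstanceAs (IsIso ((Over.forget _).map θ))
  haveI hG : IsAffineHom G.hom := inferInstance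
  have h1 : IsAffineHom (snd G (spO k K)).left :=
    MorphismProperty.of_isPullback (P := @IsAffineHom) (IsPullback.of_hasPullback G.hom (spO k K).hom) hG
  have h2 : θ ≫ snd P (spO k K) = snd G (spO k K) := lift_snd _ _
  have h3 : IsAffineHom (snd P (spO k K)).left := by
    rw [← h2, Over.comp_left] at h1
    exact (MorphismProperty.cancel_left_of_respectsIso @IsAffineHom θ.left _).1 h1
  have hQ : (@Surjective ⊓ @Flat ⊓ @QuasiCompact : MorphismProperty Scheme.{u}) (spO k K).hom := by
    refine ⟨⟨?_, ?_⟩, inferInstanceAs (QuasiCompact (Spec.map _))⟩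
    · exact ⟨fun y => ⟨IsLocalRing.closedPoint K, Subsingleton.elim (α := PrimeSpectrum k) _ _⟩⟩
    · exact Flat.SpecMap_iff.2 (RingHom.flat_algebraMap_iff.2 inferInstance)
  have h4 : IsAffineHom P.hom := FpqcDesc.isAffineHom_descends.of_isPullback
    (IsPullback.of_hasPullback P.hom (spO k K).hom).flip hQ h3
  exact isAffine_of_isAffineHom P.hom

section Coordinates

open Algebra.TensorProduct

variable {G P : Over (Spec (CommRingCat.of k))} [GrpObj G] {A B : Type u} [CommRing A] [CommRing B]
  [HopfAlgebra k A] [Algebra k B] (eA : spO k A ⟶ G) [IsIso eA] (eB : spO k B ⟶ P) [IsIso eB]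
  (a : AlgGrp.Action G P)

include eA eB in
/-- An action in coordinates. -/
theorem exists_coaction : ∃ ρ : B →ₐ[k] A ⊗[k] B, ∀ (R : Type u) [CommRing R] [Algebra k R] (g : A →ₐ[k] R)
    (x : B →ₐ[k] R), lift (spMap g ≫ eA) (spMap x ≫ eB) ≫ a.act = spMap ((productMap g x).comp ρ) ≫ eB := by
  obtain ⟨ρ, hρ⟩ := exists_spMap ((lift (spMap (includeLeft : A →ₐ[k] A ⊗[k] B) ≫ eA)
    (spMap (includeRight : B →ₐ[k] A ⊗[k] B) ≫ eB) ≫ a.act) ≫ inv eB)
  refine ⟨ρ, fun R _ _ g x => ?_⟩
  rw [spMap_comp, hρ, Category.assoc, Category.assoc, IsIso.inv_hom_id, Category.comp_id, ← Category.assoc,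
    comp_lift, ← Category.assoc, ← spMap_comp, ← Category.assoc, ← spMap_comp, productMap_left, productMap_right]

end Coordinates

/-- A torsor under an affine group scheme over an algebraically closed field has a rational point. -/
theorem exists_rational_point [IsAlgClosed k] {G P : Over (Spec (CommRingCat.of k))} [GrpObj G] [IsAffine G.left]
    (a : AlgGrp.Action G P) (hP : NonAbH1.IsTorsorFor Scheme.fpqcPrecoverage a) :
    Nonempty (𝟙_ (Over (Spec (CommRingCat.of k))) ⟶ P) := by
  obtain ⟨K, _, _, ⟨x0⟩⟩ := exists_field_point P hP.2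
  haveI := isAffine_of_isTorsor a hP.1 x0
  obtain ⟨B, _, _, ⟨eB⟩⟩ := exists_coordRing P
  let GG : Grp (Over (Spec (CommRingCat.of k))) := ⟨G⟩
  obtain ⟨⟨A⟩, ⟨i⟩⟩ := (essImage_hopfSpec (G := GG)).2 ‹IsAffine G.left›
  let iG : spO k A ⟶ G := i.hom.hom.hom
  haveI : IsIso iG := ⟨i.inv.hom.hom, congrArg (fun m => m.hom.hom) i.hom_inv_id,
    congrArg (fun m => m.hom.hom) i.inv_hom_id⟩
  obtain ⟨ρ, hρ⟩ := exists_coaction iG eB.hom a
  have hmul : ∀ (R : Type u) [CommRing R] [Algebra k R] (g h : A →ₐ[k] R),
      (spMap g ≫ iG) * (spMap h ≫ iG) =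
        spMap ((Algebra.TensorProduct.productMap g h).comp (Bialgebra.comulAlgHom k A)) ≫ iG := by
    intro R _ _ g h
    let X := ((hopfSpec (CommRingCat.of k)).obj (.op A)).X
    let u : spO k R ⟶ X := spMap g
    let v : spO k R ⟶ X := spMap h
    let w : spO k R ⟶ X := spMap ((Algebra.TensorProduct.productMap g h).comp (Bialgebra.comulAlgHom k A))
    have e : u * v = w := by
      refine Over.OverMorphism.ext ?_
      rw [Hom.mul_def, Over.comp_left]
      have hm : (lift u v).left ≫ (pullbackSpecIso k A A).hom =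
          Spec.map (CommRingCat.ofHom (Algebra.TensorProduct.productMap g h).toRingHom) := by
        rw [← Iso.eq_comp_inv]
        refine pullback.hom_ext ?_ ?_
        · rw [Category.assoc]
          erw [pullbackSpecIso_inv_fst, pullback.lift_fst, ← Spec.map_comp, ← CommRingCat.ofHom_comp]
          exact congrArg (fun φ => Spec.map (CommRingCat.ofHom (AlgHom.toRingHom φ)))
            (Algebra.TensorProduct.productMap_left g h).symm
          exact (Over.w u).trans (Over.w v).symm
        · rw [Category.assoc]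
          erw [pullbackSpecIso_inv_snd, pullback.lift_snd, ← Spec.map_comp, ← CommRingCat.ofHom_comp]
          exact congrArg (fun φ => Spec.map (CommRingCat.ofHom (AlgHom.toRingHom φ)))
            (Algebra.TensorProduct.productMap_right g h).symm
          exact (Over.w u).trans (Over.w v).symm
      show _ ≫ (pullbackSpecIso k A A).hom ≫ Spec.map (CommRingCat.ofHom (Bialgebra.comulAlgHom k A).toRingHom) = _
      rw [← Category.assoc, hm, ← Spec.map_comp, ← CommRingCat.ofHom_comp]
      rfl
    have e2 := congrArg (· ≫ iG) e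
    haveI : IsMonHom (show X ⟶ G from iG) := i.hom.hom.isMonHom_hom
    simp only [MonObj.mul_comp] at e2
    exact e2
  -- the three properties of the coaction
  have hassoc' : ∀ (R : Type u) [CommRing R] [Algebra k R] (g h : A →ₐ[k] R) (x : B →ₐ[k] R),
      (Algebra.TensorProduct.productMap ((Algebra.TensorProduct.productMap g h).comp (Bialgebra.comulAlgHom k A)) x).comp ρ =
        (Algebra.TensorProduct.productMap g ((Algebra.TensorProduct.productMap h x).comp ρ)).comp ρ := by
    intro R _ _ g h x
    apply spMap_injective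
    rw [← cancel_mono eB.hom, ← hρ, ← hρ, ← hmul, ← hρ, act_mul]
  have htors : ∀ (R : Type u) [CommRing R] [Algebra k R] (x y : B →ₐ[k] R),
      ∃! g : A →ₐ[k] R, (Algebra.TensorProduct.productMap g x).comp ρ = y := by
    intro R _ _ x y
    obtain ⟨g, hg, huniq⟩ := existsUnique_act a hP.1 (spMap x ≫ eB.hom) (spMap y ≫ eB.hom)
    obtain ⟨g', hg'⟩ := exists_spMap (g ≫ inv iG)
    have hg'' : spMap g' ≫ iG = g := by rw [hg', Category.assoc, IsIso.inv_hom_id, Category.comp_id]
    refine ⟨g', ?_, fun g₁ h₁ => ?_⟩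
    · apply spMap_injective
      rw [← cancel_mono eB.hom, ← hρ, hg'']
      exact hg
    · have h2 := huniq (spMap g₁ ≫ iG) (by
        show lift (spMap g₁ ≫ iG) (spMap x ≫ eB.hom) ≫ a.act = spMap y ≫ eB.hom
        rw [hρ, h₁])
      apply spMap_injective
      rw [← cancel_mono iG, hg'', h2]
  obtain ⟨p, hp⟩ := exists_spMap (x0 ≫ eB.inv)
  -- the algebraic input
  let φ : B →ₐ[k] A ⊗[k] K := (Algebra.TensorProduct.map (AlgHom.id k A) p).comp ρ
  have hφ2 : φ = (Algebra.TensorProduct.productMap (Algebra.TensorProduct.includeLeft : A →ₐ[k] A ⊗[k] K)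
      ((Algebra.TensorProduct.includeRight : K →ₐ[k] A ⊗[k] K).comp p)).comp ρ := by
    show (Algebra.TensorProduct.map (AlgHom.id k A) p).comp ρ = _
    congr 1
    refine Algebra.TensorProduct.ext (AlgHom.ext fun b => ?_) (AlgHom.ext fun b => ?_) <;> simp
  have hassoc : (Algebra.TensorProduct.assoc k k k A A K).toAlgHom.comp
        ((Algebra.TensorProduct.map (Bialgebra.comulAlgHom k A) (AlgHom.id k K)).comp φ) =
      (Algebra.TensorProduct.map (AlgHom.id k A) φ).comp ρ := by
    let jl : A →ₐ[k] A ⊗[k] (A ⊗[k] K) := Algebra.TensorProduct.includeLeft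
    let jr : A ⊗[k] K →ₐ[k] A ⊗[k] (A ⊗[k] K) := Algebra.TensorProduct.includeRight
    have h := hassoc' (A ⊗[k] (A ⊗[k] K)) jl (jr.comp Algebra.TensorProduct.includeLeft)
      (jr.comp (Algebra.TensorProduct.includeRight.comp p))
    rw [← AlgHom.comp_assoc]
    refine Eq.trans ?_ (h.trans ?_)
    · have E : (Algebra.TensorProduct.assoc k k k A A K).toAlgHom.comp
          ((Algebra.TensorProduct.map (Bialgebra.comulAlgHom k A) (AlgHom.id k K))) =
        Algebra.TensorProduct.productMap ((Algebra.TensorProduct.productMap jl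
          (jr.comp Algebra.TensorProduct.includeLeft)).comp (Bialgebra.comulAlgHom k A))
          (jr.comp Algebra.TensorProduct.includeRight) := ?_
      · refine (congrArg (fun f => f.comp φ) E).trans ?_
        show ((Algebra.TensorProduct.productMap _ _).comp (Algebra.TensorProduct.map (AlgHom.id k A) p)).comp ρ = _
        congr 1
        refine Algebra.TensorProduct.ext (AlgHom.ext fun b => ?_) (AlgHom.ext fun b => ?_) <;> simp [← Algebra.TensorProduct.one_def]
      · refine Algebra.TensorProduct.ext (AlgHom.ext fun b => ?_) (AlgHom.ext fun b => ?_)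
        · show Algebra.TensorProduct.assoc k k k A A K (Bialgebra.comulAlgHom k A b ⊗ₜ[k] 1) = _
          simp only [AlgHom.comp_apply, Algebra.TensorProduct.includeLeft_apply, Algebra.TensorProduct.productMap_left_apply]
          induction Bialgebra.comulAlgHom k A b using TensorProduct.induction_on with
          | zero => simp
          | tmul u v => simp [jl, jr, ← Algebra.TensorProduct.one_def]
          | add u v hu hv => simp only [TensorProduct.add_tmul, map_add, hu, hv]
        · simp [jl, jr, Algebra.TensorProduct.one_def]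
    · congr 1
      refine Algebra.TensorProduct.ext (AlgHom.ext fun b => ?_) (AlgHom.ext fun b => ?_)
      · simp [jl, ← Algebra.TensorProduct.one_def]
      · show jl 1 * (Algebra.TensorProduct.productMap _ _) (ρ b) = (1 : A) ⊗ₜ φ b
        rw [map_one, _root_.one_mul, hφ2]
        show _ = jr ((Algebra.TensorProduct.productMap _ _) (ρ b))
        induction ρ b using TensorProduct.induction_on with
        | zero => simp
        | tmul u v => simp [jr]
        | add u v hu hv => simp only [map_add, hu, hv]
  have hbij : Function.Bijective (theta φ) := by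
    let incB : B →ₐ[k] B ⊗[k] K := Algebra.TensorProduct.includeLeft
    let incK : K →ₐ[k] B ⊗[k] K := Algebra.TensorProduct.includeRight
    obtain ⟨g, hg, -⟩ := htors (B ⊗[k] K) (incK.comp p) incB
    let ω : A ⊗[k] K →ₐ[k] B ⊗[k] K := Algebra.TensorProduct.productMap g incK
    have h1 : (theta φ).comp ω = AlgHom.id k _ := by
      have hθ : (theta φ).comp g = Algebra.TensorProduct.includeLeft := by
        refine (htors (A ⊗[k] K) ((Algebra.TensorProduct.includeRight : K →ₐ[k] A ⊗[k] K).comp p) φ).unique ?_ hφ2.symm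
        have e := congrArg (fun f => (theta φ).comp f) hg
        simp only [← AlgHom.comp_assoc] at e
        refine Eq.trans ?_ (e.trans (AlgHom.ext fun b => by simp [incB]))
        congr 1
        refine Algebra.TensorProduct.ext (AlgHom.ext fun b => ?_) (AlgHom.ext fun b => ?_) <;> simp [incK, ← Algebra.TensorProduct.one_def]
      refine Algebra.TensorProduct.ext (AlgHom.ext fun b => ?_) (AlgHom.ext fun b => ?_)
      · simpa [ω] using DFunLike.congr_fun hθ b
      · simp [ω, incK]
    have h2 : ω.comp (theta φ) = AlgHom.id k _ := by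
      refine Algebra.TensorProduct.ext (AlgHom.ext fun b => ?_) (AlgHom.ext fun b => ?_)
      · have e : ω.comp φ = incB := by
          rw [hφ2, ← AlgHom.comp_assoc, ← hg]
          congr 1
          refine Algebra.TensorProduct.ext (AlgHom.ext fun b => ?_) (AlgHom.ext fun b => ?_) <;> simp [ω]
        simpa [ω, incB] using DFunLike.congr_fun e b
      · simp [ω, incK]
    exact ⟨Function.LeftInverse.injective (g := ω) fun x => DFunLike.congr_fun h2 x,
      Function.RightInverse.surjective (g := ω) fun x => DFunLike.congr_fun h1 x⟩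
  obtain ⟨χ⟩ := exists_point φ ρ p rfl hassoc hbij
  exact ⟨Over.homMk (spMap χ).left (by
    refine (Over.w (spMap χ)).trans ?_
    exact (Spec.map_id _)) ≫ eB.hom⟩

end Groth.Agent.TorsorPts
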