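import Groth.Agent.HopfPts.Basic

/-!
# Points of torsors under commutative Hopf algebras over algebraically closed fields
-/

set_option autoImplicit false
set_option backward.isDefEq.respectTransparency false
set_option maxHeartbeats 1000000
universe u

open TensorProduct Algebra.TensorProduct

noncomputable section

namespace Groth.Agent.TorsorPts

/-- If `b ⊗ 1` lies in `C ⊗ K` then `b` lies in `C`. -/
theorem mem_of_tmul_one_mem {k : Type u} [Field k] {V K : Type u} [AddCommGroup V] [Module k V] [CommRing K]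
    [Algebra k K] [Nontrivial K] (C : Submodule k V) {b : V}
    (h : b ⊗ₜ[k] (1 : K) ∈ LinearMap.range (C.subtype.rTensor K)) : b ∈ C := by
  obtain ⟨y, hy⟩ := h
  have h0 : C.mkQ b ⊗ₜ[k] (1 : K) = 0 := by
    rw [← LinearMap.rTensor_tmul, ← hy, ← LinearMap.comp_apply, ← LinearMap.rTensor_comp,
      show C.mkQ ∘ₗ C.subtype = 0 from LinearMap.ext fun x => (Submodule.Quotient.mk_eq_zero C).2 x.2,
      LinearMap.rTensor_zero, LinearMap.zero_apply]
  have hinj : Function.Injective ((Algebra.linearMap k K).lTensor (V ⧸ C)) :=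
    Module.Flat.lTensor_preserves_injective_linearMap _ (algebraMap k K).injective
  have h1 : C.mkQ b ⊗ₜ[k] (1 : k) = 0 := hinj (by
    rw [LinearMap.lTensor_tmul, map_zero, Algebra.linearMap_apply, map_one]
    exact h0)
  have h2 := congrArg (TensorProduct.rid k (V ⧸ C)) h1
  rw [TensorProduct.rid_tmul, one_smul, map_zero] at h2
  exact (Submodule.Quotient.mk_eq_zero C).1 h2

variable {k : Type u} [Field k] {A B K : Type u} [CommRing A] [HopfAlgebra k A] [CommRing B] [Algebra k B]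
  [Field K] [Algebra k K] (φ : B →ₐ[k] A ⊗[k] K)

/-- The extension of `φ` to `B ⊗ K`. -/
abbrev theta : B ⊗[k] K →ₐ[k] A ⊗[k] K := productMap φ includeRight

/-- The subalgebra of `A ⊗ K` attached to a subalgebra of `A`. -/
abbrev sK (K : Type u) [Field K] [Algebra k K] (H : Subalgebra k A) : Subalgebra k (A ⊗[k] K) :=
  (Algebra.TensorProduct.map H.val (AlgHom.id k K)).range

/-- The invariants attached to a subalgebra of `A`. -/
abbrev sB (H : Subalgebra k A) : Subalgebra k B := (sK K H).comap φ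

variable (ρ : B →ₐ[k] A ⊗[k] B) (p : B →ₐ[k] K)

/-- Descent of `H ⊗ K`. -/
theorem exists_preimage (hφ : φ = (Algebra.TensorProduct.map (AlgHom.id k A) p).comp ρ)
    (hassoc : (Algebra.TensorProduct.assoc k k k A A K).toAlgHom.comp
        ((Algebra.TensorProduct.map (Bialgebra.comulAlgHom k A) (AlgHom.id k K)).comp φ) =
      (Algebra.TensorProduct.map (AlgHom.id k A) φ).comp ρ)
    (hbij : Function.Bijective (theta φ)) (H : Subalgebra k A) (hH : HopfFF.IsHopfSub (k := k) (A := A) H)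
    (x : A ⊗[k] K) (hx : x ∈ sK K H) :
    ∃ y ∈ LinearMap.range ((sB φ H).toSubmodule.subtype.rTensor K), theta φ y = x := by
  obtain ⟨y, rfl⟩ := hbij.2 x
  refine ⟨y, ?_, rfl⟩
  let π := H.toSubmodule.mkQ
  let ψ : B →ₗ[k] (A ⧸ H.toSubmodule) ⊗[k] B := (π.rTensor B) ∘ₗ ρ.toLinearMap
  have hle : LinearMap.ker ψ ≤ (sB φ H).toSubmodule := by
    intro b hb
    obtain ⟨z, hz⟩ := ((rTensor_exact B (LinearMap.exact_subtype_mkQ H.toSubmodule) (Submodule.mkQ_surjective _)) (ρ b)).1 hb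
    show φ b ∈ sK K H
    rw [hφ, AlgHom.comp_apply, ← hz]
    clear hz
    induction z using TensorProduct.induction_on with
    | zero => simp
    | tmul a c => exact ⟨(⟨a.1, a.2⟩ : H) ⊗ₜ p c, rfl⟩
    | add a c ha hc => simp only [map_add]; exact add_mem ha hc
  -- the two ways of applying the coaction
  let F : (A ⊗[k] B) ⊗[k] K →ₐ[k] A ⊗[k] (A ⊗[k] K) :=
    (Algebra.TensorProduct.map (AlgHom.id k A) (theta φ)).comp (Algebra.TensorProduct.assoc k k k A B K).toAlgHom
  let G : A ⊗[k] K →ₐ[k] A ⊗[k] (A ⊗[k] K) :=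
    (Algebra.TensorProduct.assoc k k k A A K).toAlgHom.comp
      (Algebra.TensorProduct.map (Bialgebra.comulAlgHom k A) (AlgHom.id k K))
  have hFG : F.comp (Algebra.TensorProduct.map ρ (AlgHom.id k K)) = G.comp (theta φ) := by
    refine Algebra.TensorProduct.ext (AlgHom.ext fun b => ?_) (AlgHom.ext fun c => ?_)
    · show F (ρ b ⊗ₜ[k] 1) = G (φ b * (1 : A) ⊗ₜ[k] (1 : K))
      rw [show ((1 : A) ⊗ₜ[k] (1 : K)) = 1 from rfl, mul_one, show G (φ b) = _ from DFunLike.congr_fun hassoc b]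
      show Algebra.TensorProduct.map (AlgHom.id k A) (theta φ)
        (Algebra.TensorProduct.assoc k k k A B K (ρ b ⊗ₜ[k] 1)) = Algebra.TensorProduct.map (AlgHom.id k A) φ (ρ b)
      induction ρ b using TensorProduct.induction_on with
      | zero => simp
      | tmul a c => simp [← Algebra.TensorProduct.one_def]
      | add a c ha hc => simp only [TensorProduct.add_tmul, map_add, ha, hc]
    · show F (ρ 1 ⊗ₜ[k] c) = G (theta φ ((1 : B) ⊗ₜ[k] c))
      rw [map_one, productMap_right_apply]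
      simp [F, G, Algebra.TensorProduct.one_def]
  have hmem : G (theta φ y) ∈ LinearMap.range (H.toSubmodule.subtype.rTensor (A ⊗[k] K)) := by
    obtain ⟨z, hz⟩ := hx
    replace hz : Algebra.TensorProduct.map H.val (AlgHom.id k K) z = theta φ y := hz
    rw [← hz]
    clear hz
    induction z using TensorProduct.induction_on with
    | zero => simp
    | add a c ha hc => simp only [map_add]; exact add_mem ha hc
    | tmul h c =>
      obtain ⟨w, hw⟩ := hH.1 h h.2
      show Algebra.TensorProduct.assoc k k k A A K ((Bialgebra.comulAlgHom k A (h : A)) ⊗ₜ[k] c) ∈ _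
      rw [show Bialgebra.comulAlgHom k A (h : A) = CoalgebraStruct.comul (R := k) (h : A) from rfl, ← hw]
      clear hw
      induction w using TensorProduct.induction_on with
      | zero => simp
      | add a c ha hc => simp only [map_add, TensorProduct.add_tmul]; exact add_mem ha hc
      | tmul a a' => exact ⟨(⟨a.1, a.2⟩ : H.toSubmodule) ⊗ₜ ((a' : A) ⊗ₜ c), by simp⟩
  have h0 : π.rTensor (A ⊗[k] K) (G (theta φ y)) = 0 :=
    ((rTensor_exact (A ⊗[k] K) (LinearMap.exact_subtype_mkQ H.toSubmodule) (Submodule.mkQ_surjective _)) _).2 hmem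
  let E : ((A ⧸ H.toSubmodule) ⊗[k] B) ⊗[k] K →ₗ[k] (A ⧸ H.toSubmodule) ⊗[k] (A ⊗[k] K) :=
    ((theta φ).toLinearMap.lTensor _) ∘ₗ (_root_.TensorProduct.assoc k (A ⧸ H.toSubmodule) B K).toLinearMap
  have hE : Function.Injective E :=
    (Module.Flat.lTensor_preserves_injective_linearMap _ hbij.1).comp (LinearEquiv.injective _)
  have hEψ : ∀ z, E (ψ.rTensor K z) = π.rTensor (A ⊗[k] K) (F (Algebra.TensorProduct.map ρ (AlgHom.id k K) z)) := by
    intro z
    induction z using TensorProduct.induction_on with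
    | zero => simp
    | add a c ha hc => simp only [map_add, ha, hc]
    | tmul b c =>
      show E (π.rTensor B (ρ b) ⊗ₜ[k] c) = π.rTensor (A ⊗[k] K) (F (ρ b ⊗ₜ[k] c))
      induction ρ b using TensorProduct.induction_on with
      | zero => simp
      | tmul a b' => simp [E, F, π]
      | add a b' ha hb => simp only [TensorProduct.add_tmul, map_add, ha, hb]
  have hψ : ψ.rTensor K y = 0 := hE (by
    rw [map_zero, hEψ, show F (Algebra.TensorProduct.map ρ (AlgHom.id k K) y) = G (theta φ y) from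
      DFunLike.congr_fun hFG y, h0])
  obtain ⟨z, hz⟩ := ((Module.Flat.rTensor_exact K (LinearMap.exact_subtype_ker_map ψ)) y).1 hψ
  exact ⟨(Submodule.inclusion hle).rTensor K z, by rw [← LinearMap.comp_apply, ← LinearMap.rTensor_comp, ← hz]; rfl⟩

/-- `theta` maps `C ⊗ K` into a subalgebra containing the image of `C` and the constants. -/
theorem theta_mem (H : Subalgebra k A) (y : B ⊗[k] K)
    (hy : y ∈ LinearMap.range ((sB φ H).toSubmodule.subtype.rTensor K)) : theta φ y ∈ sK K H := by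
  obtain ⟨z, rfl⟩ := hy
  induction z using TensorProduct.induction_on with
  | zero => simp
  | add a c ha hc => simp only [map_add]; exact add_mem ha hc
  | tmul b c =>
    show φ (b : B) * (1 : A) ⊗ₜ[k] c ∈ sK K H
    exact mul_mem b.2 ⟨(1 : H) ⊗ₜ c, rfl⟩

theorem sB_mono {H H' : Subalgebra k A} (h : H ≤ H') : sB φ H ≤ sB φ H' := by
  rintro b ⟨z, hz⟩
  refine ⟨Algebra.TensorProduct.map (Subalgebra.inclusion h) (AlgHom.id k K) z, ?_⟩
  rw [← hz]
  clear hz
  induction z using TensorProduct.induction_on with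
  | zero => simp
  | tmul a c => rfl
  | add a c ha hc => simp only [map_add] at *; rw [ha, hc]

/-- Invariants which generate a subalgebra of `A` after base change generate the invariants. -/
theorem sB_le_of_generate (hinj : Function.Injective (theta φ)) (H : Subalgebra k A) (C : Subalgebra k B) (T : Set A)
    (hT : H ≤ Algebra.adjoin k T)
    (h : ∀ a ∈ T, ∃ y ∈ LinearMap.range (C.toSubmodule.subtype.rTensor K), theta φ y = a ⊗ₜ[k] (1 : K)) :
    sB φ H ≤ C := by
  let D : Subalgebra k (A ⊗[k] K) := ((Algebra.TensorProduct.map C.val (AlgHom.id k K)).range).map (theta φ)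
  have hsub : H ≤ D.comap (includeLeft : A →ₐ[k] A ⊗[k] K) := hT.trans (Algebra.adjoin_le fun a ha => by
    obtain ⟨y, ⟨z, hz⟩, hy⟩ := h a ha
    exact ⟨y, ⟨z, hz⟩, hy⟩)
  rintro b ⟨z, hz⟩
  have hD : φ b ∈ D := by
    rw [show φ b = _ from hz.symm]
    clear hz
    induction z using TensorProduct.induction_on with
    | zero => simp
    | add a c ha hc => simp only [map_add]; exact add_mem ha hc
    | tmul a c =>
      show (a : A) ⊗ₜ[k] c ∈ D
      rw [show (a : A) ⊗ₜ[k] c = (a : A) ⊗ₜ[k] (1 : K) * (1 : A) ⊗ₜ[k] c by simp]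
      exact mul_mem (hsub a.2) ⟨(1 : B) ⊗ₜ c, ⟨(1 : C) ⊗ₜ c, rfl⟩, by simp⟩
  obtain ⟨w, ⟨z', hz'⟩, hw⟩ := hD
  refine mem_of_tmul_one_mem (K := K) C.toSubmodule ⟨z', ?_⟩
  refine (show _ = w from hz').trans (hinj (hw.trans ?_))
  rw [productMap_apply_tmul, includeRight_apply]
  exact (mul_one (φ b)).symm

theorem sB_bot (hinj : Function.Injective (theta φ)) : sB φ (⊥ : Subalgebra k A) = ⊥ :=
  le_bot_iff.1 (sB_le_of_generate φ hinj ⊥ ⊥ ∅ bot_le fun _ h => absurd h (Set.notMem_empty _))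

theorem isHopfSub_bot : HopfFF.IsHopfSub (k := k) (A := A) (⊥ : Subalgebra k A) := by
  refine ⟨fun x hx => ?_, fun x hx => ?_⟩ <;> obtain ⟨r, rfl⟩ := Algebra.mem_bot.1 hx
  · refine ⟨(algebraMap k (⊥ : Subalgebra k A) r) ⊗ₜ 1, ?_⟩
    show algebraMap k A r ⊗ₜ[k] (1 : A) = Bialgebra.comulAlgHom k A (algebraMap k A r)
    rw [AlgHom.commutes]
    rfl
  · show HopfAlgebra.antipodeAlgHom k A (algebraMap k A r) ∈ _
    rw [AlgHom.commutes]
    exact Subalgebra.algebraMap_mem _ _

/-- A point of the invariants generates a proper ideal upstairs. -/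
theorem map_ker_ne_top (hφ : φ = (Algebra.TensorProduct.map (AlgHom.id k A) p).comp ρ)
    (hassoc : (Algebra.TensorProduct.assoc k k k A A K).toAlgHom.comp
        ((Algebra.TensorProduct.map (Bialgebra.comulAlgHom k A) (AlgHom.id k K)).comp φ) =
      (Algebra.TensorProduct.map (AlgHom.id k A) φ).comp ρ)
    (hbij : Function.Bijective (theta φ)) (H : Subalgebra k A) (hH : HopfFF.IsHopfSub (k := k) (A := A) H)
    (χ : sB φ H →ₐ[k] k) : (RingHom.ker χ).map (algebraMap (sB φ H) B) ≠ ⊤ := by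
  let e₀ : (sB φ H) ⊗[k] K →ₐ[k] sK K H :=
    ((theta φ).comp (Algebra.TensorProduct.map (sB φ H).val (AlgHom.id k K))).codRestrict _
      fun z => theta_mem φ H _ ⟨z, rfl⟩
  have he₀ : Function.Bijective e₀ := by
    refine ⟨fun a b h => ?_, fun x => ?_⟩
    · exact Module.Flat.rTensor_preserves_injective_linearMap (M := K) (sB φ H).toSubmodule.subtype
        (Submodule.injective_subtype _) (hbij.1 (congrArg Subtype.val h))
    · obtain ⟨y, ⟨z, hz⟩, hy⟩ := exists_preimage φ ρ p hφ hassoc hbij H hH x.1 x.2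
      exact ⟨z, Subtype.ext ((congrArg (theta φ) hz).trans hy)⟩
  let e := AlgEquiv.ofBijective e₀ he₀
  let y0 : sK K H →ₐ[k] K :=
    (productMap ((Algebra.ofId k K).comp χ) (AlgHom.id k K)).comp e.symm.toAlgHom
  have hy0 : ∀ z, y0 (e₀ z) = productMap ((Algebra.ofId k K).comp χ) (AlgHom.id k K) z := fun z =>
    congrArg (productMap ((Algebra.ofId k K).comp χ) (AlgHom.id k K)) (e.symm_apply_apply z)
  let toH : H ⊗[k] K →ₐ[k] sK K H := (Algebra.TensorProduct.map H.val (AlgHom.id k K)).rangeRestrict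
  have hc : ∀ c : K, y0 (toH ((1 : H) ⊗ₜ c)) = c := fun c => by
    rw [show toH ((1 : H) ⊗ₜ c) = e₀ ((1 : sB φ H) ⊗ₜ c) from
      Subtype.ext (show (1 : A) ⊗ₜ[k] c = theta φ ((1 : B) ⊗ₜ[k] c) by simp), hy0]
    simp
  let y : H →ₐ[k] K := y0.comp (toH.comp includeLeft)
  letI : Algebra H K := y.toRingHom.toAlgebra
  haveI : IsScalarTower k H K := IsScalarTower.of_algebraMap_eq fun r => (y.commutes r).symm
  haveI : Module.FaithfullyFlat H A := HopfFF.faithfullyFlat_of_hopfSub hH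
  let j1 : A →ₐ[k] A ⊗[H] K := Algebra.TensorProduct.includeLeft
  let j2 : K →ₐ[k] A ⊗[H] K := (Algebra.TensorProduct.includeRight : K →ₐ[H] A ⊗[H] K).restrictScalars k
  let ω : A ⊗[k] K →ₐ[k] A ⊗[H] K := productMap j1 j2
  have hω : ω.comp (Algebra.TensorProduct.map H.val (AlgHom.id k K)) = j2.comp (y0.comp toH) := by
    refine Algebra.TensorProduct.ext (AlgHom.ext fun a => ?_) (AlgHom.ext fun c => ?_)
    · show j1 (a : A) * j2 1 = (1 : A) ⊗ₜ[H] (algebraMap H K a)
      rw [map_one, mul_one, Algebra.algebraMap_eq_smul_one, ← TensorProduct.smul_tmul, Algebra.smul_def, mul_one]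
      rfl
    · show j1 1 * j2 c = (1 : A) ⊗ₜ[H] (y0 (toH ((1 : H) ⊗ₜ c)))
      rw [map_one, one_mul, hc]
      rfl
  intro htop
  have hle : (RingHom.ker χ).map (algebraMap (sB φ H) B) ≤ RingHom.ker (ω.comp φ) := by
    rw [Ideal.map_le_iff_le_comap]
    intro m hm
    obtain ⟨z, hz⟩ : φ (m : B) ∈ sK K H := m.2
    have h1 : y0 (toH z) = 0 := by
      rw [show toH z = e₀ (m ⊗ₜ 1) from Subtype.ext (hz.trans (show φ (m : B) = theta φ ((m : B) ⊗ₜ[k] (1 : K)) by
        rw [productMap_apply_tmul, map_one, mul_one])), hy0, productMap_apply_tmul, AlgHom.comp_apply,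
        (RingHom.mem_ker).1 hm, map_zero, zero_mul]
    show ω (φ (m : B)) = 0
    rw [← hz]
    exact (DFunLike.congr_fun hω z).trans (show j2 (y0 (toH z)) = 0 by rw [h1, map_zero])
  have h1 := hle (htop ▸ Submodule.mem_top (x := (1 : B)))
  haveI : Nontrivial (A ⊗[H] K) := inferInstance
  rw [RingHom.mem_ker, map_one] at h1
  exact one_ne_zero h1

/-- A point of the invariants of a smaller Hopf subalgebra extends. -/
theorem exists_step [IsAlgClosed k] (hφ : φ = (Algebra.TensorProduct.map (AlgHom.id k A) p).comp ρ)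
    (hassoc : (Algebra.TensorProduct.assoc k k k A A K).toAlgHom.comp
        ((Algebra.TensorProduct.map (Bialgebra.comulAlgHom k A) (AlgHom.id k K)).comp φ) =
      (Algebra.TensorProduct.map (AlgHom.id k A) φ).comp ρ)
    (hbij : Function.Bijective (theta φ)) (H F : Subalgebra k A) (hH : HopfFF.IsHopfSub (k := k) (A := A) H)
    (hF : HopfFF.IsHopfSub (k := k) (A := A) F) (hFfg : F.FG) (χ : sB φ H →ₐ[k] k) :
    ∃ χ' : sB φ (H ⊔ F) →ₐ[k] k,
      ∀ b : sB φ H, χ' (Subalgebra.inclusion (sB_mono φ le_sup_left) b) = χ b := by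
  classical
  obtain ⟨T, hT⟩ := hFfg
  have hgen : ∀ f : T, ∃ s : Finset B, ∃ y ∈ LinearMap.range ((Submodule.span k (s : Set B)).subtype.rTensor K),
      theta φ y = (f : A) ⊗ₜ[k] (1 : K) := by
    intro f
    have hfH' : (f : A) ∈ H ⊔ F := (le_sup_right : F ≤ H ⊔ F) (hT ▸ Algebra.subset_adjoin f.2)
    obtain ⟨y, ⟨z, hz⟩, hy⟩ := exists_preimage φ ρ p hφ hassoc hbij (H ⊔ F) (HopfPts.isHopf_sup hH hF) _
      (show (f : A) ⊗ₜ[k] (1 : K) ∈ sK K (H ⊔ F) from ⟨(⟨f, hfH'⟩ : ↥(H ⊔ F)) ⊗ₜ 1, rfl⟩)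
    obtain ⟨S, hS⟩ := TensorProduct.exists_finset z
    refine ⟨S.image (fun q => (q.1 : B)), y, ?_, hy⟩
    rw [← hz, hS, map_sum]
    exact Submodule.sum_mem _ fun q hq => ⟨(⟨(q.1 : B), Submodule.subset_span
      (by exact_mod_cast Finset.mem_image_of_mem _ hq)⟩ : Submodule.span k _) ⊗ₜ q.2, rfl⟩
  choose s hs using hgen
  let E : Finset B := Finset.univ.biUnion s
  let C : Subalgebra k B := sB φ H ⊔ Algebra.adjoin k (E : Set B)
  have hleC : sB φ (H ⊔ F) ≤ C := by
    refine sB_le_of_generate φ hbij.1 (H ⊔ F) C ((H : Set A) ∪ T) ?_ ?_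
    · rw [sup_le_iff, ← hT]
      exact ⟨fun a ha => Algebra.subset_adjoin (Or.inl ha), Algebra.adjoin_mono Set.subset_union_right⟩
    · rintro a (ha | ha)
      · obtain ⟨y, ⟨z, hz⟩, hy⟩ := exists_preimage φ ρ p hφ hassoc hbij H hH _
          (show a ⊗ₜ[k] (1 : K) ∈ sK K H from ⟨(⟨a, ha⟩ : H) ⊗ₜ 1, rfl⟩)
        refine ⟨y, ⟨(Submodule.inclusion (show (sB φ H).toSubmodule ≤ C.toSubmodule from
          fun b hb => le_sup_left (b := Algebra.adjoin k (E : Set B)) hb)).rTensor K z, ?_⟩, hy⟩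
        rw [← LinearMap.comp_apply, ← LinearMap.rTensor_comp, ← hz]
        rfl
      · obtain ⟨y, ⟨z, hz⟩, hy⟩ := hs ⟨a, ha⟩
        refine ⟨y, ⟨(Submodule.inclusion (show Submodule.span k (s ⟨a, ha⟩ : Set B) ≤ C.toSubmodule from
          Submodule.span_le.2 fun b hb => le_sup_right (a := sB φ H) (Algebra.subset_adjoin
            (Finset.mem_biUnion.2 ⟨⟨a, ha⟩, Finset.mem_univ _, hb⟩)))).rTensor K z, ?_⟩, hy⟩
        rw [← LinearMap.comp_apply, ← LinearMap.rTensor_comp, ← hz]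
        rfl
  let I : Ideal B := (RingHom.ker χ).map (algebraMap (sB φ H) B)
  haveI : Nontrivial (B ⧸ I) := Ideal.Quotient.nontrivial_iff.2 (map_ker_ne_top φ ρ p hφ hassoc hbij H hH χ)
  let q : B →ₐ[k] B ⧸ I := Ideal.Quotient.mkₐ k I
  let D : Subalgebra k (B ⧸ I) := (Algebra.adjoin k (E : Set B)).map q
  haveI : Algebra.FiniteType k D := (Subalgebra.fg_iff_finiteType D).1 ((Subalgebra.fg_adjoin_finset E).map q)
  haveI : Nontrivial D := ⟨⟨0, 1, fun h => zero_ne_one (congrArg Subtype.val h)⟩⟩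
  obtain ⟨π⟩ := HopfPts.exists_point_of_finiteType (k := k) D
  have hq : ∀ b : sB φ H, q b = algebraMap k (B ⧸ I) (χ b) := fun b => by
    rw [← sub_eq_zero, ← q.commutes, ← map_sub]
    refine Ideal.Quotient.eq_zero_iff_mem.2 ?_
    have h1 : b - algebraMap k (sB φ H) (χ b) ∈ RingHom.ker χ := by
      rw [RingHom.mem_ker, map_sub, AlgHom.commutes]
      exact sub_self _
    exact Ideal.mem_map_of_mem (algebraMap (sB φ H) B) h1
  have hle : C ≤ D.comap q :=
    sup_le (fun b hb => by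
      show q b ∈ D
      rw [hq ⟨b, hb⟩]
      exact D.algebraMap_mem _) (fun x hx => ⟨x, hx, rfl⟩)
  refine ⟨π.comp ((q.comp (sB φ (H ⊔ F)).val).codRestrict D fun x => hle (hleC x.2)), fun b => ?_⟩
  rw [AlgHom.comp_apply]
  have h2 : (q.comp (sB φ (H ⊔ F)).val).codRestrict D (fun x => hle (hleC x.2))
      (Subalgebra.inclusion (sB_mono φ le_sup_left) b) = algebraMap k D (χ b) := Subtype.ext (hq b)
  rw [h2, AlgHom.commutes]
  rfl

/-- The invariants of a directed union. -/
theorem exists_mem_of_iSup {ι : Type*} [Nonempty ι] (H : ι → Subalgebra k A) (dir : Directed (· ≤ ·) H) {b : B}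
    (hb : b ∈ sB φ (iSup H)) : ∃ i, b ∈ sB φ (H i) := by
  obtain ⟨z, hz⟩ := hb
  have key : ∀ x : A ⊗[k] K, x ∈ sK K (iSup H) → ∃ i, x ∈ sK K (H i) := by
    rintro _ ⟨w, rfl⟩
    induction w using TensorProduct.induction_on with
    | zero => exact ⟨Classical.arbitrary ι, by simp⟩
    | tmul a c =>
      obtain ⟨i, hi⟩ : ∃ i, (a : A) ∈ H i := by
        have := a.2
        rwa [← SetLike.mem_coe, Subalgebra.coe_iSup_of_directed dir, Set.mem_iUnion] at this
      exact ⟨i, (⟨a, hi⟩ : H i) ⊗ₜ c, rfl⟩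
    | add a c ha hc =>
      obtain ⟨i, hi⟩ := ha
      obtain ⟨j, hj⟩ := hc
      obtain ⟨l, hil, hjl⟩ := dir i j
      refine ⟨l, ?_⟩
      rw [map_add]
      refine add_mem ?_ ?_
      · obtain ⟨w, hw⟩ := hi
        refine ⟨Algebra.TensorProduct.map (Subalgebra.inclusion hil) (AlgHom.id k K) w, hw ▸ ?_⟩
        exact (DFunLike.congr_fun (Algebra.TensorProduct.map_comp (H l).val (Subalgebra.inclusion hil)
          (AlgHom.id k K) (AlgHom.id k K)) w).symm
      · obtain ⟨w, hw⟩ := hj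
        refine ⟨Algebra.TensorProduct.map (Subalgebra.inclusion hjl) (AlgHom.id k K) w, hw ▸ ?_⟩
        exact (DFunLike.congr_fun (Algebra.TensorProduct.map_comp (H l).val (Subalgebra.inclusion hjl)
          (AlgHom.id k K) (AlgHom.id k K)) w).symm
  exact key _ ⟨z, hz⟩

/-- A torsor has a rational point. -/
theorem exists_point [IsAlgClosed k] (hφ : φ = (Algebra.TensorProduct.map (AlgHom.id k A) p).comp ρ)
    (hassoc : (Algebra.TensorProduct.assoc k k k A A K).toAlgHom.comp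
        ((Algebra.TensorProduct.map (Bialgebra.comulAlgHom k A) (AlgHom.id k K)).comp φ) =
      (Algebra.TensorProduct.map (AlgHom.id k A) φ).comp ρ)
    (hbij : Function.Bijective (theta φ)) : Nonempty (B →ₐ[k] k) := by
  let E := Σ' (H : {H : Subalgebra k A // HopfFF.IsHopfSub (k := k) (A := A) H}), (sB φ H.1 →ₐ[k] k)
  let le : E → E → Prop := fun e e' => ∃ h : e.1.1 ≤ e'.1.1, ∀ b, e'.2 (Subalgebra.inclusion (sB_mono φ h) b) = e.2 b
  letI : Preorder E :=
    { le := le
      le_refl := fun e => ⟨le_rfl, fun b => rfl⟩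
      le_trans := fun a b c ⟨h, hb⟩ ⟨h', hc⟩ => ⟨h.trans h', fun x => by rw [← hb x, ← hc _]; rfl⟩ }
  haveI : Nontrivial B := by
    refine not_subsingleton_iff_nontrivial.1 fun h => one_ne_zero (α := K) ?_
    have h1 := congrArg (productMap ((Algebra.ofId k K).comp (Bialgebra.counitAlgHom k A)) (AlgHom.id k K))
      (congrArg φ (Subsingleton.elim (1 : B) 0))
    rwa [map_one, map_one, map_zero, map_zero] at h1
  haveI hne : Nonempty E := ⟨⟨⟨⊥, isHopfSub_bot⟩,
    (Algebra.botEquiv k B).toAlgHom.comp (Subalgebra.inclusion (sB_bot φ hbij.1).le)⟩⟩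
  obtain ⟨e, he⟩ := zorn_le_nonempty (α := E) fun c hc hcne => by
    haveI : Nonempty ↥c := hcne.to_subtype
    let K' : ↥c → Subalgebra k B := fun e => sB φ e.1.1.1
    have dirH : Directed (· ≤ ·) (fun e : ↥c => e.1.1.1) := fun a b => by
      rcases hc.total a.2 b.2 with h | h
      · exact ⟨b, h.1, le_rfl⟩
      · exact ⟨a, le_rfl, h.1⟩
    have dir : Directed (· ≤ ·) K' := fun a b => by
      obtain ⟨l, h1, h2⟩ := dirH a b
      exact ⟨l, sB_mono φ h1, sB_mono φ h2⟩
    have compat : ∀ (i j : ↥c) (h : K' i ≤ K' j), i.1.2 = (j.1.2).comp (Subalgebra.inclusion h) := fun i j h => by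
      refine AlgHom.ext fun b => ?_
      rcases hc.total i.2 j.2 with ⟨h', hh⟩ | ⟨h', hh⟩
      · exact (hh b).symm
      · exact hh ⟨b, h b.2⟩
    let H := iSup fun e : ↥c => e.1.1.1
    have hle : sB φ H ≤ iSup K' := fun b hb => by
      obtain ⟨i, hi⟩ := exists_mem_of_iSup φ _ dirH hb
      exact le_iSup K' i hi
    let χ : sB φ H →ₐ[k] k := Subalgebra.iSupLift K' dir (fun i => i.1.2) compat (sB φ H) hle
    refine ⟨⟨⟨H, HopfPts.isHopf_iSup _ dirH fun i => i.1.1.2⟩, χ⟩, fun e he => ?_⟩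
    exact ⟨le_iSup (fun e : ↥c => e.1.1.1) ⟨e, he⟩, fun b =>
      Subalgebra.iSupLift_inclusion (K := K') (dir := dir) (f := fun i => i.1.2) (hf := compat) (T := sB φ H)
        (hT := hle) (i := ⟨e, he⟩) b _⟩
  obtain ⟨⟨H, hH⟩, χ⟩ := e
  have htop : H = ⊤ := by
    refine eq_top_iff.2 fun x _ => ?_
    obtain ⟨F, hxF, hFfg, hF⟩ := HopfPts.exists_fg (k := k) x
    obtain ⟨ψ, hψ⟩ := exists_step φ ρ p hφ hassoc hbij H F hH hF hFfg χ
    obtain ⟨h, -⟩ := he (b := ⟨⟨H ⊔ F, HopfPts.isHopf_sup hH hF⟩, ψ⟩) ⟨le_sup_left, fun b => hψ b⟩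
    exact h (le_sup_right (a := H) hxF)
  subst htop
  refine ⟨χ.comp ((AlgHom.id k B).codRestrict (sB φ (⊤ : Subalgebra k A)) fun b => ?_)⟩
  show φ b ∈ sK K (⊤ : Subalgebra k A)
  generalize φ b = w
  induction w using TensorProduct.induction_on with
  | zero => simp
  | tmul a c => exact ⟨(⟨a, Algebra.mem_top⟩ : (⊤ : Subalgebra k A)) ⊗ₜ c, rfl⟩
  | add a c ha hc => exact add_mem ha hc

end Groth.Agent.TorsorPts
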